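import Cfsg.Agent.Lib.ChevStr.Orders
import Cfsg.Agent.Lib.Recognition.G2Four.Field
import Cfsg.Agent.Lib.Recognition.SamePrimeGraph

/-!
The group `G₂(4)` and its six-dimensional module: the adjoint module is the orthogonal complement of
the symplectic form inside the alternating square of the six-dimensional one.
-/

set_option autoImplicit false
set_option maxRecDepth 100000

namespace CfsgLib.Recognition.G2Four

open Matrix Cfsg.Lie

/-- Positions of the off-diagonal entries of the root elements, with the degree in the parameter. -/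
def entTable : List (List (ℕ × ℕ × ℕ)) := [[(0, 4, 1), (1, 5, 1)], [(0, 3, 1), (2, 5, 1)], [(0, 5, 2), (1, 3, 1), (2, 4, 1)], [(0, 2, 1), (1, 4, 2), (3, 5, 1)], [(0, 1, 1), (2, 3, 2), (4, 5, 1)], [(1, 2, 1), (3, 4, 1)], [(2, 1, 1), (4, 3, 1)], [(1, 0, 1), (3, 2, 2), (5, 4, 1)], [(2, 0, 1), (4, 1, 2), (5, 3, 1)], [(3, 1, 1), (4, 2, 1), (5, 0, 2)], [(3, 0, 1), (5, 2, 1)], [(4, 0, 1), (5, 1, 1)]]

/-- The root element in six dimensions. -/
def a6 (p : Fin 12 × F4) : Matrix (Fin 6) (Fin 6) F4 :=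
  Matrix.of fun i j =>
    if (i.val, j.val, 1) ∈ entTable.getD p.1.val [] then p.2
    else if (i.val, j.val, 2) ∈ entTable.getD p.1.val [] then p.2 * p.2
    else if i = j then 1 else 0

/-- The root element in the adjoint module. -/
def x14 (p : Fin 12 × F4) : Matrix chevG2.Idx chevG2.Idx F4 := chevG2.xMat F4 p.1 p.2

/-- Supports of the images of the adjoint basis. -/
def colTable : List (List (ℕ × ℕ)) := [[(0, 5), (1, 4)], [(1, 4), (2, 3)], [(0, 1)], [(0, 2)], [(1, 2)], [(0, 3)], [(0, 4)], [(1, 3)], [(2, 4)], [(1, 5)], [(2, 5)], [(3, 4)], [(3, 5)], [(4, 5)]]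

/-- The number of a coordinate of the adjoint module. -/
def code : chevG2.Idx → ℕ
  | Sum.inl i => i.val
  | Sum.inr r => 2 + r.val

/-- The image of a basis vector of the adjoint module among alternating matrices. -/
def E (k : chevG2.Idx) : Matrix (Fin 6) (Fin 6) F4 :=
  Matrix.of fun i j =>
    if (i.val, j.val) ∈ colTable.getD (code k) [] ∨ (j.val, i.val) ∈ colTable.getD (code k) [] then 1 else 0

/-- The symplectic form. -/
def J : Matrix (Fin 6) (Fin 6) F4 := Matrix.of fun i j => if i.val + j.val = 5 then 1 else 0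

/-- The embedding of the adjoint module. -/
def phi : (chevG2.Idx → F4) →ₗ[F4] Matrix (Fin 6) (Fin 6) F4 where
  toFun v := Matrix.of fun i j => ∑ k, v k * E k i j
  map_add' v w := by ext i j; simp [add_mul, Finset.sum_add_distrib]
  map_smul' c v := by
    ext i j
    simp only [Matrix.of_apply, Matrix.smul_apply, Pi.smul_apply, smul_eq_mul, RingHom.id_apply,
      Finset.mul_sum, mul_assoc]

theorem phi_single (k : chevG2.Idx) : phi (Pi.single k 1) = E k := by
  ext i j
  show ∑ c, (Pi.single k (1 : F4) : chevG2.Idx → F4) c * E c i j = E k i j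
  rw [Finset.sum_eq_single k (fun c _ hc => by rw [Pi.single_eq_of_ne hc, zero_mul])
    (fun h => absurd (Finset.mem_univ k) h), Pi.single_eq_same, one_mul]

/-- For each position, the adjoint coordinates supported there. -/
def posTable : List (List ℕ) := [[], [2], [3], [5], [6], [0], [2], [], [4], [7], [0, 1], [9], [3], [4], [], [1], [8], [10], [5], [7], [1], [], [11], [12], [6], [0, 1], [8], [11], [], [13], [0], [9], [10], [12], [13], []]

/-- The coordinate with a given number. -/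
def decode (n : ℕ) : chevG2.Idx :=
  if n < 2 then Sum.inl ⟨n % 2, Nat.mod_lt _ (by decide)⟩
  else Sum.inr ⟨(n - 2) % 12, Nat.mod_lt _ (by decide)⟩

/-- The coordinates supported at a position. -/
def kList (i j : Fin 6) : List chevG2.Idx := (posTable.getD (6 * i.val + j.val) []).map decode

/-- The support of a basis vector. -/
def pairs (c : chevG2.Idx) : List (Fin 6 × Fin 6) :=
  (colTable.getD (code c) []).map fun p => (Fin.ofNat 6 p.1, Fin.ofNat 6 p.2)

/-- An elementary alternating matrix. -/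
def Em (i j : Fin 6) : Matrix (Fin 6) (Fin 6) F4 :=
  Matrix.of fun k l => if (k = i ∧ l = j) ∨ (k = j ∧ l = i) then 1 else 0

theorem kList_spec : ∀ i j : Fin 6, (kList i j).Nodup ∧
    ∀ k : chevG2.Idx, E k i j = if (∃ a ∈ kList i j, a = k) then 1 else 0 := by
  decide +kernel

theorem pairs_spec : ∀ c : chevG2.Idx, (∀ p ∈ pairs c, p.1 ≠ p.2) ∧
    ((pairs c).map fun p => Em p.1 p.2).sum = E c := by
  decide +kernel

theorem phi_apply (v : chevG2.Idx → F4) (i j : Fin 6) :
    phi v i j = ((kList i j).map v).sum := by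
  show ∑ k, v k * E k i j = _
  obtain ⟨hn, hE⟩ := kList_spec i j
  simp only [hE, exists_eq_right, mul_ite, mul_one, mul_zero]
  rw [← List.sum_toFinset v hn, Finset.sum_ite, Finset.sum_const_zero, add_zero]
  refine Finset.sum_congr (Finset.ext fun k => ?_) fun _ _ => rfl
  simp

theorem sandwich_Em {p q : Fin 6} (h : p ≠ q) (A : Matrix (Fin 6) (Fin 6) F4) (i j : Fin 6) :
    (A * Em p q * Aᵀ) i j = A i p * A j q + A i q * A j p := by
  have hE : ∀ m n, Em p q m n =
      (if m = p ∧ n = q then 1 else 0) + (if m = q ∧ n = p then 1 else 0) := by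
    intro m n
    by_cases hA : m = p ∧ n = q
    · have hB : ¬ (m = q ∧ n = p) := fun hB => h (hA.1.symm.trans hB.1)
      show (if _ then (1 : F4) else 0) = _
      rw [if_pos (Or.inl hA), if_pos hA, if_neg hB, add_zero]
    · show (if _ then (1 : F4) else 0) = _
      rw [if_neg hA, zero_add]
      exact if_congr (or_iff_right hA) rfl rfl
  simp [Matrix.mul_apply, hE, mul_add, add_mul, Finset.sum_add_distrib, ite_and, add_comm]

theorem sandwich_E (A : Matrix (Fin 6) (Fin 6) F4) (c : chevG2.Idx) (i j : Fin 6) :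
    (A * E c * Aᵀ) i j =
      ((pairs c).map fun p => A i p.1 * A j p.2 + A i p.2 * A j p.1).sum := by
  obtain ⟨hne, hs⟩ := pairs_spec c
  rw [← hs]
  clear hs
  revert hne
  generalize pairs c = L
  intro hne
  induction L with
  | nil => simp
  | cons p l ih =>
    simp only [List.map_cons, List.sum_cons, Matrix.mul_add, Matrix.add_mul, Matrix.add_apply,
      sandwich_Em (hne p List.mem_cons_self), ih fun q hq => hne q (List.mem_cons_of_mem p hq)]

theorem intertwine_entries : ∀ r : Fin 12, ∀ t : Fin 4, ∀ c : chevG2.Idx, ∀ i j : Fin 6,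
    ((kList i j).map fun k => x14 (r, ⟨t⟩) k c).sum =
      ((pairs c).map fun p => a6 (r, ⟨t⟩) i p.1 * a6 (r, ⟨t⟩) j p.2 +
        a6 (r, ⟨t⟩) i p.2 * a6 (r, ⟨t⟩) j p.1).sum := by
  decide +kernel

theorem intertwine_check (r : Fin 12) (t : Fin 4) (c : chevG2.Idx) :
    phi (fun k => x14 (r, ⟨t⟩) k c) = a6 (r, ⟨t⟩) * E c * (a6 (r, ⟨t⟩))ᵀ := by
  ext i j
  rw [phi_apply, sandwich_E]
  exact intertwine_entries r t c i j

theorem form_check : ∀ r : Fin 12, ∀ t : Fin 4, a6 (r, ⟨t⟩) * J * (a6 (r, ⟨t⟩))ᵀ = J := by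
  decide +kernel

theorem a6_sq : ∀ r : Fin 12, ∀ t : Fin 4, a6 (r, ⟨t⟩) * a6 (r, ⟨t⟩) = 1 := by
  decide +kernel

theorem Em_cases : ∀ i j : Fin 6, i ≠ j → (∃ c, Em i j = E c) ∨
    Em i j = J + E (Sum.inl ⟨0, by decide⟩) ∨ Em i j = J + E (Sum.inl ⟨1, by decide⟩) ∨
    Em i j = J + E (Sum.inl ⟨0, by decide⟩) + E (Sum.inl ⟨1, by decide⟩) := by
  decide +kernel

theorem phi_coord : ∀ k : chevG2.Idx, ∃ i j : Fin 6,
    (fun c => E c i j) = fun c => if c = k then 1 else 0 := by
  decide +kernel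

theorem phi_injective : Function.Injective phi := by
  intro v w h
  funext k
  obtain ⟨i, j, hk⟩ := phi_coord k
  have h1 := congrFun (congrFun h i) j
  change ∑ c, v c * E c i j = ∑ c, w c * E c i j at h1
  simp only [congrFun hk, mul_ite, mul_one, mul_zero] at h1
  rwa [Finset.sum_ite_eq', Finset.sum_ite_eq', if_pos (Finset.mem_univ k),
    if_pos (Finset.mem_univ k)] at h1

theorem intertwine (r : Fin 12) (t : Fin 4) (v : chevG2.Idx → F4) :
    phi (x14 (r, ⟨t⟩) *ᵥ v) = a6 (r, ⟨t⟩) * phi v * (a6 (r, ⟨t⟩))ᵀ := by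
  have h : phi.comp (Matrix.mulVecLin (x14 (r, ⟨t⟩))) =
      ((LinearMap.mulRight F4 (a6 (r, ⟨t⟩))ᵀ).comp (LinearMap.mulLeft F4 (a6 (r, ⟨t⟩)))).comp phi := by
    refine (Pi.basisFun F4 chevG2.Idx).ext fun c => ?_
    simp only [Pi.basisFun_apply, LinearMap.comp_apply, Matrix.mulVecLin_apply, Matrix.mulVec_single_one,
      LinearMap.mulRight_apply, LinearMap.mulLeft_apply, phi_single]
    exact intertwine_check r t c
  exact LinearMap.congr_fun h v

theorem x14_sq (r : Fin 12) (t : Fin 4) : x14 (r, ⟨t⟩) * x14 (r, ⟨t⟩) = 1 := by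
  refine Matrix.toLin'.injective (LinearMap.ext fun v => phi_injective ?_)
  rw [Matrix.toLin'_apply, Matrix.toLin'_apply, ← Matrix.mulVec_mulVec, intertwine, intertwine,
    Matrix.one_mulVec]
  rw [show a6 (r, ⟨t⟩) * (a6 (r, ⟨t⟩) * phi v * (a6 (r, ⟨t⟩))ᵀ) * (a6 (r, ⟨t⟩))ᵀ =
    (a6 (r, ⟨t⟩) * a6 (r, ⟨t⟩)) * phi v * ((a6 (r, ⟨t⟩))ᵀ * (a6 (r, ⟨t⟩))ᵀ) by
      simp only [mul_assoc], ← Matrix.transpose_mul, a6_sq, Matrix.transpose_one, one_mul, mul_one]

/-- The six-dimensional root element, invertible. -/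
def a6GL (p : Fin 12 × F4) : GL (Fin 6) F4 :=
  ⟨a6 p, a6 p, a6_sq p.1 p.2.v, a6_sq p.1 p.2.v⟩

/-- The adjoint root element, invertible. -/
def x14GL (p : Fin 12 × F4) : GL chevG2.Idx F4 :=
  ⟨x14 p, x14 p, x14_sq p.1 p.2.v, x14_sq p.1 p.2.v⟩

/-- The pairs compatible with the embedding and the form. -/
def compat : Subgroup (GL (Fin 6) F4 × GL chevG2.Idx F4) where
  carrier := {g | (g.1.val * J * g.1.valᵀ = J) ∧
    ∀ v, phi (g.2.val *ᵥ v) = g.1.val * phi v * g.1.valᵀ}
  one_mem' := ⟨by simp, fun v => by simp⟩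
  mul_mem' := by
    rintro ⟨a, b⟩ ⟨c, d⟩ ⟨h1, h2⟩ ⟨h3, h4⟩
    refine ⟨?_, fun v => ?_⟩
    · show (a.val * c.val) * J * (a.val * c.val)ᵀ = J
      simp only at h1 h3
      rw [Matrix.transpose_mul, show a.val * c.val * J * (c.valᵀ * a.valᵀ) =
        a.val * (c.val * J * c.valᵀ) * a.valᵀ by simp only [mul_assoc], h3, h1]
    · show phi ((b.val * d.val) *ᵥ v) = (a.val * c.val) * phi v * (a.val * c.val)ᵀ
      simp only at h2 h4
      rw [← Matrix.mulVec_mulVec, h2, h4, Matrix.transpose_mul]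
      simp only [mul_assoc]
  inv_mem' := by
    rintro ⟨a, b⟩ ⟨h1, h2⟩
    have key : ∀ X Y : Matrix (Fin 6) (Fin 6) F4, X = a.val * Y * a.valᵀ →
        a⁻¹.val * X * a⁻¹.valᵀ = Y := by
      intro X Y h
      rw [h, show a⁻¹.val * (a.val * Y * a.valᵀ) * a⁻¹.valᵀ =
        (a⁻¹.val * a.val) * Y * (a.valᵀ * a⁻¹.valᵀ) by simp only [mul_assoc],
        ← Matrix.transpose_mul, Units.inv_mul, Matrix.transpose_one, one_mul, mul_one]
    refine ⟨key J J h1.symm, fun v => (key _ _ ?_).symm⟩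
    show phi v = _
    have h := h2 (b⁻¹.val *ᵥ v)
    rwa [Matrix.mulVec_mulVec, Units.mul_inv, Matrix.one_mulVec] at h

/-- The group, as pairs of representing matrices. -/
def grp : Subgroup (GL (Fin 6) F4 × GL chevG2.Idx F4) :=
  Subgroup.closure (Set.range fun p => (a6GL p, x14GL p))

theorem grp_le_compat : grp ≤ compat := by
  rw [grp, Subgroup.closure_le]
  rintro _ ⟨⟨r, t⟩, rfl⟩
  exact ⟨form_check r t.v, intertwine r t.v⟩

theorem sq_eq_one : ∀ d : Fin 4, (⟨d⟩ : F4) * ⟨d⟩ = 1 → (⟨d⟩ : F4) = 1 := by decide +kernel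

/-- A matrix fixing all alternating matrices and invertible is the identity. -/
theorem eq_one_of_fix (a : GL (Fin 6) F4)
    (h : ∀ i j : Fin 6, i ≠ j → a.val * Em i j * a.valᵀ = Em i j) : a = 1 := by
  have hent : ∀ i j k l : Fin 6, i ≠ j →
      a.val k i * a.val l j + a.val k j * a.val l i = Em i j k l := by
    intro i j k l hij
    rw [← congrFun (congrFun (h i j hij) k) l, sandwich_Em hij]
  have hinv : ∀ j i : Fin 6, ∑ l, a⁻¹.val j l * a.val l i = if j = i then 1 else 0 := by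
    intro j i
    have h1 := congrFun (congrFun a.inv_mul j) i
    rwa [Matrix.mul_apply, Matrix.one_apply] at h1
  have hoff : ∀ k i : Fin 6, k ≠ i → a.val k i = 0 := by
    intro k i hki
    obtain ⟨j, hji, hjk⟩ : ∃ j : Fin 6, j ≠ i ∧ j ≠ k := by
      revert k i; decide
    have h0 : ∀ l, a.val k i * a.val l j + a.val k j * a.val l i = 0 := fun l => by
      rw [hent i j k l (Ne.symm hji)]; simp [Em, hki, Ne.symm hjk]
    have h2 : ∑ l, a⁻¹.val j l * (a.val k i * a.val l j + a.val k j * a.val l i) = 0 := by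
      simp [h0]
    simp only [mul_add, Finset.sum_add_distrib, mul_left_comm (a⁻¹.val j _), ← Finset.mul_sum,
      hinv] at h2
    simpa [hji] using h2
  have hd : ∀ i j : Fin 6, i ≠ j → a.val i i * a.val j j = 1 := by
    intro i j hij
    have h1 := hent i j i j hij
    rw [hoff i j hij, zero_mul, add_zero] at h1
    simpa [Em] using h1
  refine Units.ext (Matrix.ext fun i j => ?_)
  rw [Units.val_one]
  by_cases hij : i = j
  · subst hij
    obtain ⟨j, k, hj, hk, hjk⟩ : ∃ j k : Fin 6, i ≠ j ∧ i ≠ k ∧ j ≠ k := by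
      revert i; decide
    have h1 : a.val i i * a.val i i = 1 := by
      calc a.val i i * a.val i i = (a.val i i * a.val j j) * (a.val i i * a.val k k) := by
            rw [mul_mul_mul_comm, hd j k hjk, mul_one]
        _ = 1 := by rw [hd i j hj, hd i k hk, mul_one]
    rw [Matrix.one_apply_eq]
    exact sq_eq_one (a.val i i).v h1
  · rw [hoff i j hij, Matrix.one_apply_ne hij]

theorem grp_fst_injective : Function.Injective fun g : grp => g.1.1 := by
  suffices hk : ∀ g ∈ grp, g.1 = 1 → g = 1 by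
    intro g h e
    have h1 := hk (g⁻¹ * h).1 (g⁻¹ * h).2 (by
      show g.1.1⁻¹ * h.1.1 = 1
      simp only at e
      rw [e, inv_mul_cancel])
    have h2 : g⁻¹ * h = 1 := Subtype.ext h1
    exact inv_mul_eq_one.1 h2
  rintro ⟨a, b⟩ hg ha
  obtain ⟨-, h2⟩ := grp_le_compat hg
  simp only at ha h2
  subst ha
  refine Prod.ext rfl (Units.ext ?_)
  refine Matrix.toLin'.injective (LinearMap.ext fun v => phi_injective ?_)
  simpa using h2 v

theorem grp_snd_injective : Function.Injective fun g : grp => g.1.2 := by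
  suffices hk : ∀ g ∈ grp, g.2 = 1 → g = 1 by
    intro g h e
    have h1 := hk (g⁻¹ * h).1 (g⁻¹ * h).2 (by
      show g.1.2⁻¹ * h.1.2 = 1
      simp only at e
      rw [e, inv_mul_cancel])
    have h2 : g⁻¹ * h = 1 := Subtype.ext h1
    exact inv_mul_eq_one.1 h2
  rintro ⟨a, b⟩ hg hb
  obtain ⟨hJ, h2⟩ := grp_le_compat hg
  simp only at hb hJ h2
  subst hb
  have hE : ∀ c, a.val * E c * a.valᵀ = E c := fun c => by
    have h := h2 (Pi.single c 1)
    rw [Units.val_one, Matrix.one_mulVec, phi_single] at h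
    exact h.symm
  refine Prod.ext (eq_one_of_fix a fun i j hij => ?_) rfl
  rcases Em_cases i j hij with ⟨c, hc⟩ | hc | hc | hc <;>
    simp only [hc, Matrix.mul_add, Matrix.add_mul, hJ, hE]

theorem grp_map_snd : grp.map (MonoidHom.snd _ _) = chevG2.group F4 := by
  rw [grp, MonoidHom.map_closure, ChevalleyDatum.group]
  congr 1
  ext g
  constructor
  · rintro ⟨_, ⟨p, rfl⟩, rfl⟩
    exact ⟨p.1, p.2, rfl⟩
  · rintro ⟨r, t, h⟩
    exact ⟨_, ⟨(r, t), rfl⟩, Units.ext h.symm⟩

/-- The model is the Chevalley group. -/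
noncomputable def equivGroup : grp ≃* chevG2.group F4 :=
  (MonoidHom.ofInjective (f := (MonoidHom.snd _ _).comp grp.subtype) grp_snd_injective).trans
    (MulEquiv.subgroupCongr (by rw [MonoidHom.range_comp, Subgroup.range_subtype, grp_map_snd]))

theorem card_grp : Nat.card grp = 251596800 := by
  rw [Nat.card_congr equivGroup.toEquiv]
  have h := (CfsgLib.ChevStr.coreG2 F4).card_group_mul F4.card_eq (N := 6)
    (CfsgLib.ChevStr.ncard_isPosRoot (by decide +kernel)) CfsgLib.ChevStr.poincareG2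
    (F4.card_eq ▸ CfsgLib.ChevStr.card_diagonalG2 F4)
  rw [one_mul] at h
  rw [h]
  rfl

/-- The module. -/
abbrev V6 := Fin 6 → F4

/-- The action on the six-dimensional module. -/
def rho : grp →* AddMonoid.End V6 where
  toFun g := (Matrix.mulVecLin g.1.1.val).toAddMonoidHom
  map_one' := AddMonoidHom.ext fun v => by
    show (1 : Matrix (Fin 6) (Fin 6) F4) *ᵥ v = v
    exact Matrix.one_mulVec v
  map_mul' g h := AddMonoidHom.ext fun v => (Matrix.mulVec_mulVec v g.1.1.val h.1.1.val).symm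

theorem two_smul' : ∀ x : Fin 4, (2 : ℕ) • (⟨x⟩ : F4) = 0 := by decide +kernel

theorem V6_exp (v : V6) : 2 • v = 0 := funext fun i => two_smul' (v i).v

/-- A word of order 6. -/
def w6 : List (Fin 12 × F4) := [(0, F4.ofN 1), (2, F4.ofN 1), (9, F4.ofN 1), (0, F4.ofN 1), (2, F4.ofN 1), (9, F4.ofN 1)]

/-- A word of order 10. -/
def w10 : List (Fin 12 × F4) := [(0, F4.ofN 1), (2, F4.ofN 1), (9, F4.ofN 2)]

/-- A word of order 7. -/
def w7 : List (Fin 12 × F4) := [(0, F4.ofN 1), (4, F4.ofN 1), (9, F4.ofN 1)]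

/-- A word of order 13. -/
def w13 : List (Fin 12 × F4) := [(0, F4.ofN 1), (2, F4.ofN 1), (4, F4.ofN 2), (9, F4.ofN 2)]

/-- The element of a word. -/
def elt (w : List (Fin 12 × F4)) : grp :=
  (w.map fun p => (⟨(a6GL p, x14GL p), Subgroup.subset_closure ⟨p, rfl⟩⟩ : grp)).prod

theorem elt_val (w : List (Fin 12 × F4)) : (elt w).1.1.val = (w.map a6).prod := by
  induction w with
  | nil => rfl
  | cons p l ih => rw [elt, List.map_cons, List.prod_cons, List.map_cons, List.prod_cons, ← ih]; rfl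

/-- Powers of a matrix by repeated multiplication. -/
def pw (A : Matrix (Fin 6) (Fin 6) F4) : ℕ → Matrix (Fin 6) (Fin 6) F4
  | 0 => 1
  | n + 1 => pw A n * A

theorem pw_eq (A : Matrix (Fin 6) (Fin 6) F4) : ∀ n, pw A n = A ^ n
  | 0 => (pow_zero A).symm
  | n + 1 => by rw [pw, pw_eq A n, pow_succ]

theorem orderOf_elt {w : List (Fin 12 × F4)} {n : ℕ} (hn : 0 < n)
    (h1 : pw (w.map a6).prod n = 1)
    (h2 : ∀ d : Fin n, d.val ≠ 0 → pw (w.map a6).prod d.val ≠ 1) :
    orderOf (elt w) = n := by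
  let f : grp →* Matrix (Fin 6) (Fin 6) F4 :=
    (Units.coeHom _).comp ((MonoidHom.fst _ _).comp grp.subtype)
  have hf : Function.Injective f := Units.val_injective.comp grp_fst_injective
  rw [← orderOf_injective f hf, orderOf_eq_iff hn, show f (elt w) = (w.map a6).prod from elt_val w]
  refine ⟨by rw [← pw_eq]; exact h1, fun m hm hm0 he => ?_⟩
  exact h2 ⟨m, hm⟩ (by show m ≠ 0; omega) (by rw [pw_eq]; exact he)

theorem order_six : orderOf (elt w6) = 6 := orderOf_elt (by norm_num) (by decide +kernel) (by decide +kernel)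

theorem order_ten : orderOf (elt w10) = 10 := orderOf_elt (by norm_num) (by decide +kernel) (by decide +kernel)

theorem order_seven : orderOf (elt w7) = 7 := orderOf_elt (by norm_num) (by decide +kernel) (by decide +kernel)

theorem order_thirteen : orderOf (elt w13) = 13 := orderOf_elt (by norm_num) (by decide +kernel) (by decide +kernel)

/-- Matrices as rows of codes. -/
def ofRows (l : List (List ℕ)) : Matrix (Fin 6) (Fin 6) F4 :=
  Matrix.of fun i j => F4.ofN ((l.getD i.val []).getD j.val 0)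

theorem fpf_of_inverse {w : List (Fin 12 × F4)} {B : Matrix (Fin 6) (Fin 6) F4}
    (h : B * ((w.map a6).prod + 1) = 1)
    (v : V6) (hv : rho (elt w) v = v) : v = 0 := by
  have h0 : ((w.map a6).prod + 1) *ᵥ v = 0 := by
    rw [Matrix.add_mulVec, Matrix.one_mulVec, ← elt_val]
    rw [show (elt w).1.1.val *ᵥ v = v from hv]
    exact (two_nsmul v).symm.trans (V6_exp v)
  rw [← Matrix.one_mulVec v, ← h, ← Matrix.mulVec_mulVec, h0, Matrix.mulVec_zero]

theorem fpf_seven (v : V6) (hv : rho (elt w7) v = v) : v = 0 :=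
  fpf_of_inverse (B := ofRows [[0, 0, 0, 0, 0, 1], [0, 0, 0, 1, 0, 0], [0, 1, 0, 0, 1, 0], [0, 0, 1, 1, 0, 0], [1, 0, 0, 1, 1, 0], [0, 1, 0, 0, 0, 1]]) (by decide +kernel) v hv

theorem fpf_thirteen (v : V6) (hv : rho (elt w13) v = v) : v = 0 :=
  fpf_of_inverse (B := ofRows [[0, 0, 0, 0, 0, 2], [0, 0, 0, 3, 0, 0], [3, 2, 3, 3, 3, 0], [3, 3, 3, 2, 0, 0], [2, 2, 3, 2, 1, 0], [3, 2, 3, 3, 0, 1]]) (by decide +kernel) v hv

theorem prime_cases {p : ℕ} (hp : p.Prime) (h : p ∣ 251596800) :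
    p = 2 ∨ p = 3 ∨ p = 5 ∨ p = 7 ∨ p = 13 := by
  rw [show (251596800 : ℕ) = 2 ^ 12 * (3 ^ 3 * (5 ^ 2 * (7 * 13))) by norm_num] at h
  have key : ∀ r k : ℕ, r.Prime → p ∣ r ^ k → p = r := fun r k hr hd =>
    (Nat.prime_dvd_prime_iff_eq hp hr).1 (hp.dvd_of_dvd_pow hd)
  rcases hp.dvd_mul.1 h with h | h
  · exact Or.inl (key 2 12 Nat.prime_two h)
  rcases hp.dvd_mul.1 h with h | h
  · exact Or.inr (Or.inl (key 3 3 Nat.prime_three h))
  rcases hp.dvd_mul.1 h with h | h
  · exact Or.inr (Or.inr (Or.inl (key 5 2 Nat.prime_five h)))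
  rcases hp.dvd_mul.1 h with h | h
  · exact Or.inr (Or.inr (Or.inr (Or.inl (key 7 1 (by norm_num) (by rwa [pow_one])))))
  · exact Or.inr (Or.inr (Or.inr (Or.inr (key 13 1 (by norm_num) (by rwa [pow_one])))))

/-- Groups of unbounded order with the prime graph of the model. -/
theorem exists_large (N : ℕ) :
    ∃ (H : Type) (_ : Group H) (_ : Finite H), N < Nat.card H ∧
      (∀ p : ℕ, p.Prime → (p ∣ Nat.card grp ↔ p ∣ Nat.card H)) ∧
      ∀ p q : ℕ, p.Prime → q.Prime → p ≠ q →
        ((∃ g : grp, orderOf g = p * q) ↔ (∃ g : H, orderOf g = p * q)) := by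
  refine SamePrimeGraph.exists_large Nat.prime_two (by rw [card_grp]; norm_num) V6_exp rho
    (fun q hq hq2 hqd => ?_) N
  rcases prime_cases hq (card_grp ▸ hqd) with rfl | rfl | rfl | rfl | rfl
  · exact absurd rfl hq2
  · exact Or.inl ⟨_, order_six⟩
  · exact Or.inl ⟨_, order_ten⟩
  · exact Or.inr (SamePrimeGraph.fixed_eq_zero_of_sylow rho hq (by rw [card_grp]; norm_num)
      order_seven fpf_seven)
  · exact Or.inr (SamePrimeGraph.fixed_eq_zero_of_sylow rho hq (by rw [card_grp]; norm_num)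
      order_thirteen fpf_thirteen)

end CfsgLib.Recognition.G2Four
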